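import Cfsg.Agent.SM.Glue
import Cfsg.Agent.SM.NP.Main
import Cfsg.Agent.SM.Af.Main
import Cfsg.Agent.SM.Pw.Final
import Cfsg.Agent.SM.Ot.Main

/-!
# SM (S3570): the statement from the almost simple box alone (helper59)
-/

set_option autoImplicit false

namespace Cfsg.Agent.SM

theorem s3570_of_as (as : BoxAS) (n : ℕ) (hn : 5 ≤ n) {G : Type*} [Group G]
    (hG : Nonempty (G ≃* Equiv.Perm (Fin n)) ∨ Nonempty (G ≃* ↥(alternatingGroup (Fin n))))
    (H : Subgroup G) (hH1 : ¬ IsCoatom H) (hH2 : H ≠ ⊤)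
    (hH3 : ∀ M : Subgroup G, IsCoatom M → H ≤ M → IsCoatom (H.subgroupOf M)) :
    {M : Subgroup G | IsCoatom M ∧ H ≤ M}.ncard ≤ 11 :=
  s3570_of NP.boxNP Af.boxAff Pw.boxPow Ot.boxOth as n hn hG H hH1 hH2 hH3

end Cfsg.Agent.SM
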