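import Cfsg.Agent.SM.Fac

/-!
# SM (S3570): rigidity and counting lemmas (helper32)

* `Up.rig`: an isomorphism of the socles which is the identity on `T` and respects point stabilisers is the identity.
* `ncard_le_of_stabs`: counting by the candidates for the point stabiliser in a fixed model `S₀`.
* `ncard_le_of_nbhd`: counting by the `M_a`-invariant sets (unions of suborbits).
* `ncard_le_of_rel3`: counting by invariant ternary relations (two-graphs, lines).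
-/

set_option autoImplicit false
set_option linter.unusedSectionVars false

namespace Cfsg.Agent.SM

open Cfsg Equiv Subgroup MulAction

variable {Ω : Type} [Fintype Ω] [DecidableEq Ω] {X H T M S M₁ S₁ M₂ S₂ : Subgroup (Perm Ω)}

/-- **Rigidity.** -/
theorem Up.rig (u₁ : Up X H T M₁ S₁) (u₂ : Up X H T M₂ S₂) (θ : S₁ ≃* S₂)
    (hT : ∀ t (ht : t ∈ T), (θ ⟨t, u₁.le ht⟩ : Perm Ω) = t) {a b : Ω}
    (hB : ∀ s : S₁, (s : Perm Ω) a = a → (θ s : Perm Ω) b = b) : M₁ = M₂ := by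
  have hb : b = a := u₁.socH.eq_of_fix u₁.prim u₁.two fun t ht e => by
    have := hB ⟨t, u₁.le ht⟩ e
    rwa [hT t ht] at this
  subst hb
  have h1 : ∀ s : S₁, (θ s : Perm Ω) = s := fun s => Perm.ext fun x => by
    obtain ⟨t, ht, rfl⟩ := u₁.trans b x
    obtain ⟨t', ht', e⟩ := u₁.trans b ((s : Perm Ω) (t b))
    have h2 := hB ((⟨t', u₁.le ht'⟩ : S₁)⁻¹ * s * ⟨t, u₁.le ht⟩) (Perm.inv_eq_iff_eq.2 e.symm)
    rw [map_mul, map_mul, map_inv] at h2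
    have h3 : (θ ⟨t', u₁.le ht'⟩ : Perm Ω)⁻¹ ((θ s : Perm Ω) ((θ ⟨t, u₁.le ht⟩ : Perm Ω) b)) = b := h2
    rw [hT t ht, hT t' ht', Perm.inv_eq_iff_eq] at h3
    rw [h3, e]
  have h2 : S₁ = S₂ := by
    refine le_antisymm (fun s hs => ?_) fun s hs => ?_
    · rw [← show (θ ⟨s, hs⟩ : Perm Ω) = s from h1 ⟨s, hs⟩]
      exact (θ _).2
    · have h3 := h1 (θ.symm ⟨s, hs⟩)
      rw [θ.apply_symm_apply] at h3
      rw [show s = _ from h3]
      exact (θ.symm _).2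
  exact u₁.sec.eq_of_nor u₁.ov u₂.ov u₁.socM.toNor (h2 ▸ u₂.socM.toNor) u₁.socM.ne

/-- rigidity through a common model `S₀` and an automorphism `τ` of the model -/
theorem Up.rig_model (u₁ : Up X H T M₁ S₁) (u₂ : Up X H T M₂ S₂) {S₀ : Type*} [Group S₀] (φ₁ : S₁ ≃* S₀) (φ₂ : S₂ ≃* S₀)
    (τ : S₀ ≃* S₀) (hT : ∀ t (ht : t ∈ T), τ (φ₁ ⟨t, u₁.le ht⟩) = φ₂ ⟨t, u₂.le ht⟩) {a b : Ω}
    (hB : ∀ (s : S₁) (s' : S₂), (s : Perm Ω) a = a → τ (φ₁ s) = φ₂ s' → (s' : Perm Ω) b = b) : M₁ = M₂ :=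
  u₁.rig u₂ ((φ₁.trans τ).trans φ₂.symm) (fun t ht => by
    show (φ₂.symm (τ (φ₁ _)) : Perm Ω) = t
    rw [hT t ht, φ₂.symm_apply_apply]) (a := a) (b := b) fun s hs => hB s _ hs (φ₂.apply_symm_apply _).symm

/-- counting by a colouring -/
theorem ncard_le_of_col {α β : Type*} {O : Set α} {C : Set β} (hC : C.Finite) (r : α → β → Prop)
    (h1 : ∀ x ∈ O, ∃ c ∈ C, r x c) (h2 : ∀ x ∈ O, ∀ y ∈ O, ∀ c ∈ C, r x c → r y c → x = y) : O.ncard ≤ C.ncard := by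
  rcases O.eq_empty_or_nonempty with rfl | ⟨x₀, h₀⟩
  · simp
  have : Nonempty β := ⟨(h1 x₀ h₀).choose⟩
  choose! f hf using h1
  exact Set.ncard_le_ncard_of_injOn f (fun x hx => (hf x hx).1)
    (fun x hx y hy e => h2 x hx y hy _ (hf x hx).1 (hf x hx).2 (e ▸ (hf y hy).2)) hC

/-- **Counting by stabilisers**: all socles are identified with `S₀` by isomorphisms which extend one embedding `ι` of `T`;
the image of the stabiliser of `a` lies in a member of `𝓑`, a finite set of proper subgroups which ... is only used through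
equality of images. -/
theorem ncard_le_of_stabs {S₀ : Type*} [Group S₀] (ι : T →* S₀) (a : Ω) {O : Set (Subgroup (Perm Ω))}
    {𝓑 : Set (Subgroup S₀)} (h𝓑 : 𝓑.Finite)
    (h : ∀ M ∈ O, ∃ S, ∃ u : Up X H T M S, ∃ φ : S ≃* S₀, (∀ t (ht : t ∈ T), φ ⟨t, u.le ht⟩ = ι ⟨t, ht⟩) ∧
      ∃ B ∈ 𝓑, ∀ s : S, (s : Perm Ω) a = a ↔ φ s ∈ B) : O.ncard ≤ 𝓑.ncard := by
  refine ncard_le_of_col h𝓑 (fun M B => ∃ S, ∃ u : Up X H T M S, ∃ φ : S ≃* S₀,
    (∀ t (ht : t ∈ T), φ ⟨t, u.le ht⟩ = ι ⟨t, ht⟩) ∧ ∀ s : S, (s : Perm Ω) a = a ↔ φ s ∈ B) (fun M hM => ?_) ?_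
  · obtain ⟨S, u, φ, h1, B, hB, h2⟩ := h M hM
    exact ⟨B, hB, S, u, φ, h1, h2⟩
  · rintro M₁ - M₂ - B - ⟨S₁, u₁, φ₁, h1, h2⟩ ⟨S₂, u₂, φ₂, h3, h4⟩
    exact u₁.rig_model u₂ φ₁ φ₂ (MulEquiv.refl _) (fun t ht => (h1 t ht).trans (h3 t ht).symm) (a := a) (b := a)
      fun s s' hs e => (h4 s').2 (e ▸ (h2 s).1 hs)

/-- the permutations which keep a relation on the `k`-tuples -/
def relStab {ι : Type} (r : (ι → Ω) → Prop) : Subgroup (Perm Ω) where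
  carrier := {g | ∀ x, r (g ∘ x) ↔ r x}
  one_mem' := fun _ => Iff.rfl
  mul_mem' := fun {g h} hg hh x => (hg (h ∘ x)).trans (hh x)
  inv_mem' := fun {g} hg x => by
    have := hg (⇑g⁻¹ ∘ x)
    rw [show g ∘ ⇑g⁻¹ ∘ x = x from funext fun i => Perm.eq_inv_iff_eq.1 rfl] at this
    exact this.symm

/-- in a finite setting one implication is enough -/
theorem le_relStab {ι : Type} {r : (ι → Ω) → Prop} (h : ∀ g ∈ M, ∀ x, r x → r (g ∘ x)) : M ≤ relStab r :=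
  fun g hg x => ⟨fun k => by
    have := h g⁻¹ (M.inv_mem hg) _ k
    rwa [show ⇑g⁻¹ ∘ g ∘ x = x from funext fun i => Perm.inv_eq_iff_eq.2 rfl] at this, h g hg x⟩

/-- the alternating group is `(n - 2)`-transitive -/
theorem not_alt_le_relStab {k : ℕ} (hk : k + 2 ≤ Fintype.card Ω) {r : (Fin k → Ω) → Prop} {x y : Fin k → Ω}
    (hx : Function.Injective x) (hy : Function.Injective y) (h1 : r x) (h2 : ¬ r y) :
    ¬ alternatingGroup Ω ≤ relStab r := fun h => by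
  have h3 : IsMultiplyPretransitive (alternatingGroup Ω) Ω (Nat.card Ω - 2) := alternatingGroup.isMultiplyPretransitive Ω
  have h4 : IsMultiplyPretransitive (alternatingGroup Ω) Ω k :=
    isMultiplyPretransitive_of_le (n := Nat.card Ω - 2) (by rw [Nat.card_eq_fintype_card]; omega) (Nat.sub_le _ _)
  obtain ⟨g, hg⟩ := h4.exists_smul_eq ⟨x, hx⟩ ⟨y, hy⟩
  have h5 : (g : Perm Ω) ∘ x = y := funext fun i => congrArg (fun e : Fin k ↪ Ω => e i) hg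
  exact h2 (h5 ▸ (h g.2 x).2 h1)

/-- **Counting by invariant relations** on `k`-tuples, `k + 2 ≤ n`. -/
theorem Sec.ncard_le_of_rel (s : Sec X H) {k : ℕ} (hk : k + 2 ≤ Fintype.card Ω) {O : Set (Subgroup (Perm Ω))}
    {C : Set ((Fin k → Ω) → Prop)} (hC : C.Finite)
    (h : ∀ M ∈ O, M ∈ Ov X H ∧ ∃ r ∈ C, (∀ g ∈ M, ∀ x, r x → r (g ∘ x)) ∧
      ∃ x y, Function.Injective x ∧ Function.Injective y ∧ r x ∧ ¬ r y) : O.ncard ≤ C.ncard := by
  refine ncard_le_of_col hC (fun M r => M ≤ relStab r ∧ ¬ alternatingGroup Ω ≤ relStab r) (fun M hM => ?_)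
    fun M hM M' hM' r _ k1 k2 => s.eq_of_le_of_le (h M hM).1 (h M' hM').1 k1.1 k2.1 k1.2
  obtain ⟨r, hr, h1, x, y, hx, hy, h2, h3⟩ := (h M hM).2
  exact ⟨r, hr, le_relStab h1, not_alt_le_relStab hk hx hy h2 h3⟩

/-- **Counting by unions of suborbits**: each `M ∈ O` has an `M_a`-invariant set `Δ ∈ 𝒟` which contains some but not all
points different from `a`. -/
theorem Sec.ncard_le_of_nbhd (s : Sec X H) (ht : ∀ a b : Ω, ∃ h ∈ H, h a = b) (a : Ω) {O : Set (Subgroup (Perm Ω))}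
    {𝒟 : Set (Set Ω)}
    (h : ∀ M ∈ O, M ∈ Ov X H ∧ ∃ Δ ∈ 𝒟, (∀ g ∈ M, g a = a → ∀ x ∈ Δ, g x ∈ Δ) ∧ (∃ b ∈ Δ, b ≠ a) ∧ ∃ c ∉ Δ, c ≠ a) :
    O.ncard ≤ 𝒟.ncard := by
  let r : Set Ω → (Fin 2 → Ω) → Prop := fun Δ x => ∃ g ∈ H, g a = x 0 ∧ g⁻¹ (x 1) ∈ Δ
  refine ncard_le_of_col (Set.toFinite 𝒟) (fun M Δ => M ≤ relStab (r Δ) ∧ ¬ alternatingGroup Ω ≤ relStab (r Δ))
    (fun M hM => ?_) fun M hM M' hM' r _ k1 k2 => s.eq_of_le_of_le (h M hM).1 (h M' hM').1 k1.1 k2.1 k1.2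
  obtain ⟨hM', Δ, hΔ, h1, ⟨b, hb, hba⟩, c, hc, hca⟩ := h M hM
  have inj : ∀ {z : Ω}, z ≠ a → Function.Injective ![a, z] := fun {z} hz i j e => by
    fin_cases i <;> fin_cases j
    · rfl
    · exact absurd e.symm hz
    · exact absurd e hz
    · rfl
  refine ⟨Δ, hΔ, le_relStab ?_, not_alt_le_relStab (le_trans (by norm_num) s.five) (inj hba) (inj hca)
    ⟨1, H.one_mem, rfl, hb⟩ ?_⟩
  · rintro m hm x ⟨g, hg, e, hx⟩
    obtain ⟨g', hg', e'⟩ := ht a (m (x 0))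
    refine ⟨g', hg', e', ?_⟩
    have h2 := h1 (g'⁻¹ * m * g) (M.mul_mem (M.mul_mem (M.inv_mem (hM'.2 hg')) hm) (hM'.2 hg))
      (Perm.inv_eq_iff_eq.2 (by rw [e', ← e])) _ hx
    simpa using h2
  · rintro ⟨g, hg, e, hx⟩
    have h2 := h1 g (hM'.2 hg) e _ hx
    exact hc (by simpa using h2)

end Cfsg.Agent.SM
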