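import Cfsg.Agent.SM.Defs

/-!
# SM (S3570): the almost simple box from the nine family bounds (helper32)
-/

set_option autoImplicit false
set_option linter.unusedSectionVars false

namespace Cfsg.Agent.SM

open Cfsg Equiv Subgroup MulAction

/-- the value `k` is `0` or a bound of the table -/
def Tab.At (R : Tab) (t n k : ℕ) : Prop := k = 0 ∨ R t n k

theorem Bnd.at {P : Fam} {R : Tab} (h : Bnd P R) {Ω : Type} [Fintype Ω] [DecidableEq Ω] (X H T : Subgroup (Perm Ω)) :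
    ∃ k, R.At (Nat.card T) (Fintype.card Ω) k ∧ (OvP P X H T).ncard ≤ k := by
  rcases (OvP P X H T).eq_empty_or_nonempty with e | e
  · exact ⟨0, Or.inl rfl, by simp [e]⟩
  · obtain ⟨k, h1, h2⟩ := h Ω X H T e
    exact ⟨k, Or.inr h1, h2⟩

/-- splitting a family into two parts -/
theorem Bnd.split {P P₁ P₂ : Fam} {R₁ R₂ R : Tab} (h₁ : Bnd P₁ R₁) (h₂ : Bnd P₂ R₂)
    (hP : ∀ (S : Type) [Group S], P S → P₁ S ∨ P₂ S)
    (hR : ∀ t n k₁ k₂, R₁.At t n k₁ → R₂.At t n k₂ → (R₁ t n k₁ ∨ R₂ t n k₂) → ∃ k, k₁ + k₂ ≤ k ∧ R t n k) :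
    Bnd P R := fun Ω _ _ X H T hn => by
  have hs : OvP P X H T ⊆ OvP P₁ X H T ∪ OvP P₂ X H T := fun M ⟨S, u, hS⟩ =>
    (hP S hS).imp (fun k => ⟨S, u, k⟩) fun k => ⟨S, u, k⟩
  have hc := (Set.ncard_le_ncard hs).trans (Set.ncard_union_le _ _)
  rcases (OvP P₁ X H T).eq_empty_or_nonempty with e₁ | e₁
  · obtain ⟨k₂, a, b⟩ := h₂ Ω X H T (by
      obtain ⟨M, hM⟩ := hn
      exact ⟨M, (hs hM).resolve_left (by simp [e₁])⟩)
    obtain ⟨k, c, d⟩ := hR _ _ 0 k₂ (Or.inl rfl) (Or.inr a) (Or.inr a)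
    rw [e₁, Set.ncard_empty] at hc
    exact ⟨k, d, by omega⟩
  · obtain ⟨k₁, a, b⟩ := h₁ Ω X H T e₁
    obtain ⟨k₂, a', b'⟩ := h₂.at X H T
    obtain ⟨k, c, d⟩ := hR _ _ k₁ k₂ (Or.inr a) a' (Or.inl a)
    exact ⟨k, d, by omega⟩

/-- a subfamily -/
theorem Bnd.sub {P P' : Fam} {R : Tab} (h : Bnd P R) (hP : ∀ (S : Type) [Group S], P' S → P S) :
    Bnd P' R := fun Ω _ _ X H T hn => by
  have hs : OvP P' X H T ⊆ OvP P X H T := fun M ⟨S, u, hS⟩ => ⟨S, u, hP S hS⟩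
  obtain ⟨k, a, b⟩ := h Ω X H T (hn.mono hs)
  exact ⟨k, a, (Set.ncard_le_ncard hs).trans b⟩

/-- a family without overgroups can be added -/
theorem Bnd.or_nil {P P₁ P₂ : Fam} {R : Tab} (h₁ : Bnd P₁ R) (h₂ : Nil P₂)
    (hP : ∀ (S : Type) [Group S], P S → P₁ S ∨ P₂ S) : Bnd P R := fun Ω _ _ X H T hn => by
  have hs : OvP P X H T ⊆ OvP P₁ X H T := fun M ⟨S, u, hS⟩ =>
    (hP S hS).elim (fun k => ⟨S, u, k⟩) fun k => (h₂ Ω X H T M S u k).elim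
  obtain ⟨k, a, b⟩ := h₁ Ω X H T (hn.mono hs)
  exact ⟨k, a, (Set.ncard_le_ncard hs).trans b⟩

theorem Nil.or {P P₁ P₂ : Fam} (h₁ : Nil P₁) (h₂ : Nil P₂) (hP : ∀ (S : Type) [Group S], P S → P₁ S ∨ P₂ S) : Nil P :=
  fun Ω _ _ X H T M S u hS => (hP S hS).elim (h₁ Ω X H T M S u) (h₂ Ω X H T M S u)

/-- the sum of the tables is at most nine -/
def Arith (RA RL RU RS RO RP RM RE RX : Tab) : Prop :=
  ∀ t n a l u s o p m e x : ℕ, RA.At t n a → RL.At t n l → RU.At t n u → RS.At t n s → RO.At t n o → RP.At t n p →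
    RM.At t n m → RE.At t n e → RX.At t n x → a + l + u + s + o + p + m + e + x ≤ 9

theorem fam_cases {S : Type} [Group S] (hk : IsKnownSimple' S) (hn : ¬ IsMulCommutative S) :
    fA S ∨ fL S ∨ fU S ∨ fS S ∨ fO S ∨ fP S ∨ fM S ∨ fE S ∨ fX S := by
  unfold fA fL fU fS fO fP fM fE fX
  rcases hk with h | h | h | h | h | h | h | h | h | h
  · have : Fact (Nat.card S).Prime := ⟨h⟩
    have : IsCyclic S := isCyclic_of_prime_card (p := Nat.card S) rfl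
    exact absurd (inferInstance : IsMulCommutative S) hn
  all_goals tauto

/-- **The almost simple box from the nine bounds.** -/
theorem boxAS_of (cfsg : ∀ (S : Type) [Group S] [Finite S] [IsSimpleGroup S], IsKnownSimple' S)
    {RA RL RU RS RO RP RM RE RX : Tab} (hA : Bnd fA RA) (hL : Bnd fL RL) (hU : Bnd fU RU) (hS : Bnd fS RS)
    (hO : Bnd fO RO) (hP : Bnd fP RP) (hM : Bnd fM RM) (hE : Bnd fE RE) (hX : Bnd fX RX)
    (ar : Arith RA RL RU RS RO RP RM RE RX) : BoxAS := fun Ω _ _ X H T s hp hT => by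
  obtain ⟨a, a1, a2⟩ := hA.at X H T
  obtain ⟨l, l1, l2⟩ := hL.at X H T
  obtain ⟨u, u1, u2⟩ := hU.at X H T
  obtain ⟨s', s1, s2⟩ := hS.at X H T
  obtain ⟨o, o1, o2⟩ := hO.at X H T
  obtain ⟨p, p1, p2⟩ := hP.at X H T
  obtain ⟨m, m1, m2⟩ := hM.at X H T
  obtain ⟨e, e1, e2⟩ := hE.at X H T
  obtain ⟨x, x1, x2⟩ := hX.at X H T
  have h := ar _ _ _ _ _ _ _ _ _ _ _ a1 l1 u1 s1 o1 p1 m1 e1 x1
  have hs : {M | M ∈ Ov X H ∧ ∃ S, Soc M S ∧ S ≠ T} ⊆ OvP fA X H T ∪ (OvP fL X H T ∪ (OvP fU X H T ∪ (OvP fS X H T ∪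
      (OvP fO X H T ∪ (OvP fP X H T ∪ (OvP fM X H T ∪ (OvP fE X H T ∪ OvP fX X H T))))))) := by
    rintro M ⟨hM, S, h1, h2⟩
    have := h1.simple
    have v : Up X H T M S := ⟨s, hp, hT, hM, h1, h2⟩
    rcases fam_cases (cfsg S) h1.nab with k | k | k | k | k | k | k | k | k
    · exact Or.inl ⟨S, v, k⟩
    · exact Or.inr (Or.inl ⟨S, v, k⟩)
    · exact Or.inr (Or.inr (Or.inl ⟨S, v, k⟩))
    · exact Or.inr (Or.inr (Or.inr (Or.inl ⟨S, v, k⟩)))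
    · exact Or.inr (Or.inr (Or.inr (Or.inr (Or.inl ⟨S, v, k⟩))))
    · exact Or.inr (Or.inr (Or.inr (Or.inr (Or.inr (Or.inl ⟨S, v, k⟩)))))
    · exact Or.inr (Or.inr (Or.inr (Or.inr (Or.inr (Or.inr (Or.inl ⟨S, v, k⟩))))))
    · exact Or.inr (Or.inr (Or.inr (Or.inr (Or.inr (Or.inr (Or.inr (Or.inl ⟨S, v, k⟩)))))))
    · exact Or.inr (Or.inr (Or.inr (Or.inr (Or.inr (Or.inr (Or.inr (Or.inr ⟨S, v, k⟩)))))))
  have k : ∀ {A B : Set (Subgroup (Perm Ω))} {i j : ℕ}, A.ncard ≤ i → B.ncard ≤ j → (A ∪ B).ncard ≤ i + j :=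
    fun h1 h2 => (Set.ncard_union_le _ _).trans (add_le_add h1 h2)
  have := (Set.ncard_le_ncard hs).trans (k a2 (k l2 (k u2 (k s2 (k o2 (k p2 (k m2 (k e2 x2))))))))
  omega

end Cfsg.Agent.SM
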