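import Cfsg.Agent.SM.Rig
import Cfsg.Prelude.Def_KGroupFacts

/-!
# SM (S3570): the normaliser trick (helper64)

`φ : G →* Perm Ω` has image `S`.  An automorphism `γ` of `G` which keeps the stabiliser of a point is induced by a
permutation `π` (`exists_ind`).  Even permutations normalising `S` lie in `M = H S`, so that `π ^ |Out T|` lies in `S`.
-/

set_option autoImplicit false
set_option linter.unusedSectionVars false

namespace Cfsg.Agent.SM

open Cfsg Equiv Subgroup MulAction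

variable {Ω : Type} [Fintype Ω] [DecidableEq Ω] {X H T M S : Subgroup (Perm Ω)}

/-- `π` induces `γ` -/
def Ind {G : Type*} [Group G] (φ : G →* Perm Ω) (γ : G ≃* G) (π : Perm Ω) : Prop := ∀ g, π * φ g * π⁻¹ = φ (γ g)

section ind

variable {G : Type*} [Group G] {φ : G →* Perm Ω} {γ δ : G ≃* G} {π ρ : Perm Ω}

/-- an automorphism which maps the stabiliser of `a` onto the stabiliser of `b` is induced by a permutation -/
theorem exists_ind (φ : G →* Perm Ω) (γ : G ≃* G) {a b : Ω} (ht : ∀ x, ∃ g, φ g a = x)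
    (h : ∀ g, φ g a = a ↔ φ (γ g) b = b) : ∃ π : Perm Ω, π a = b ∧ Ind φ γ π := by
  choose w hw using ht
  have key : ∀ g g', φ g a = φ g' a ↔ φ (γ g) b = φ (γ g') b := fun g g' => by
    have := h (g'⁻¹ * g)
    rw [map_mul, map_inv, map_mul, map_inv, map_mul, map_inv, Perm.mul_apply, Perm.mul_apply, Perm.inv_eq_iff_eq,
      Perm.inv_eq_iff_eq] at this
    exact this
  have hf : ∀ g, φ (γ (w (φ g a))) b = φ (γ g) b := fun g => (key _ _).1 (hw _)
  have inj : Function.Injective fun x => φ (γ (w x)) b := fun x y e => by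
    rw [← hw x, ← hw y]
    exact (key _ _).2 e
  let π : Perm Ω := Equiv.ofBijective _ (Finite.injective_iff_bijective.1 inj)
  have hπ : ∀ g, π (φ g a) = φ (γ g) b := hf
  refine ⟨π, by simpa using hπ 1, fun g => ?_⟩
  rw [mul_inv_eq_iff_eq_mul]
  ext x
  rw [← hw x, Perm.mul_apply, Perm.mul_apply, ← Perm.mul_apply (φ g), ← map_mul, hπ, hπ, map_mul, map_mul,
    Perm.mul_apply]

theorem Ind.mul (h1 : Ind φ γ π) (h2 : Ind φ δ ρ) : Ind φ (δ.trans γ) (π * ρ) := fun g => by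
  rw [MulEquiv.trans_apply, ← h1, ← h2]
  group

theorem Ind.pow {γ : MulAut G} (h : Ind φ γ π) (k : ℕ) : Ind φ (γ ^ k) (π ^ k) := by
  induction k with
  | zero => intro g; simp
  | succ k ih =>
    intro g
    rw [pow_succ, pow_succ, MulAut.mul_apply, ← ih, ← h]
    group

theorem Ind.mem_normalizer (h : Ind φ γ π) : π ∈ normalizer (φ.range : Set (Perm Ω)) := by
  rw [mem_normalizer_iff]
  intro x
  constructor
  · rintro ⟨g, rfl⟩
    exact ⟨γ g, (h g).symm⟩
  · rintro ⟨g, hg⟩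
    refine ⟨γ.symm g, ?_⟩
    have := h (γ.symm g)
    rw [γ.apply_symm_apply, hg] at this
    exact mul_left_cancel (mul_right_cancel this)

end ind

/-- a non-abelian simple group of permutations consists of even permutations -/
theorem Soc.le_alt (h : Soc M S) : S ≤ alternatingGroup Ω := by
  have := h.simple
  rcases (inferInstance : ((alternatingGroup Ω).subgroupOf S).Normal).eq_bot_or_eq_top with hb | ht
  · refine absurd ⟨⟨fun x y => ?_⟩⟩ h.nab
    have h1 : x * y * x⁻¹ * y⁻¹ ∈ (alternatingGroup Ω).subgroupOf S := by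
      rw [mem_subgroupOf, Perm.mem_alternatingGroup]
      simp [mul_comm, mul_left_comm]
    rw [hb, mem_bot] at h1
    calc x * y = x * y * x⁻¹ * y⁻¹ * (y * x) := by group
      _ = y * x := by rw [h1, one_mul]
  · exact subgroupOf_eq_top.1 ht

/-- an element of `X` which normalises `S` lies in `M` -/
theorem Up.mem_of_norm (u : Up X H T M S) {π : Perm Ω} (h1 : π ∈ normalizer (S : Set (Perm Ω))) (h2 : π ∈ X) : π ∈ M := by
  rw [u.sec.eq_normalizer u.ov u.socM.toNor u.socM.ne]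
  exact ⟨h2, h1⟩

theorem Up.mem_of_sign (u : Up X H T M S) {π : Perm Ω} (h1 : π ∈ normalizer (S : Set (Perm Ω))) (h2 : Perm.sign π = 1) :
    π ∈ M := u.mem_of_norm h1 (u.sec.alt (Perm.mem_alternatingGroup.2 h2))

/-- squares of normalising permutations lie in `M` -/
theorem Up.sq_mem (u : Up X H T M S) {π : Perm Ω} (h1 : π ∈ normalizer (S : Set (Perm Ω))) : π ^ 2 ∈ M :=
  u.mem_of_sign (pow_mem h1 2) (by simp [sq])

/-- a normalising permutation with an odd power in `S` lies in `M` -/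
theorem Up.mem_of_odd (u : Up X H T M S) {π : Perm Ω} (h1 : π ∈ normalizer (S : Set (Perm Ω))) {k : ℕ} (hk : Odd k)
    (h2 : π ^ k ∈ S) : π ∈ M := by
  refine u.mem_of_sign h1 ?_
  have h3 := Perm.mem_alternatingGroup.1 (u.socM.le_alt h2)
  rw [map_pow] at h3
  rcases Int.units_eq_one_or (Perm.sign π) with h | h
  · exact h
  · rw [h, hk.neg_one_pow] at h3
    exact absurd h3 (by decide)

/-- of two normalising permutations and their product one lies in `M` -/
theorem Up.mem_or (u : Up X H T M S) {π ρ : Perm Ω} (h1 : π ∈ normalizer (S : Set (Perm Ω)))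
    (h2 : ρ ∈ normalizer (S : Set (Perm Ω))) : π ∈ M ∨ ρ ∈ M ∨ π * ρ ∈ M := by
  rcases Int.units_eq_one_or (Perm.sign π) with h | h
  · exact Or.inl (u.mem_of_sign h1 h)
  rcases Int.units_eq_one_or (Perm.sign ρ) with k | k
  · exact Or.inr (Or.inl (u.mem_of_sign h2 k))
  · exact Or.inr (Or.inr (u.mem_of_sign (mul_mem h1 h2) (by rw [map_mul, h, k]; decide)))

/-- a permutation which acts on `S` like an element of `S` is this element -/
theorem Up.eq_of_conj (u : Up X H T M S) {π s : Perm Ω} (h : ∀ t ∈ T, π * t * π⁻¹ = s * t * s⁻¹) : π = s := by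
  have := u.cen (g := s⁻¹ * π) fun t ht => by
    calc s⁻¹ * π * t = s⁻¹ * (π * t * π⁻¹) * π := by group
      _ = t * (s⁻¹ * π) := by rw [h t ht]; group
  exact (inv_mul_eq_one.1 this).symm

/-- `|H : T|` divides `|Out T|` -/
theorem AS.relIndex_dvd {Γ : Type} [Group Γ] [Finite Γ] {H T : Subgroup Γ} (h : AS H T) :
    T.relIndex H ∣ Nat.card (Out T) := by
  let f : H →* Out T := (QuotientGroup.mk' (Inn T)).comp h.aut
  have hk : f.ker = T.subgroupOf H := by
    ext g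
    rw [MonoidHom.mem_ker, mem_subgroupOf]
    show ((h.aut g : MulAut T) : Out T) = 1 ↔ _
    rw [QuotientGroup.eq_one_iff]
    constructor
    · rintro ⟨t, ht⟩
      have h1 := h.cen ((t : Γ)⁻¹ * g) (H.mul_mem (H.inv_mem (h.le t.2)) g.2) fun x hx => by
        have h2 : ((MulAut.conj t ⟨x, hx⟩ : T) : Γ) = h.aut g ⟨x, hx⟩ := by rw [ht]
        have h3 : (t : Γ) * x * (t : Γ)⁻¹ = g * x * (g : Γ)⁻¹ := h2
        calc (t : Γ)⁻¹ * g * x = (t : Γ)⁻¹ * (g * x * (g : Γ)⁻¹) * g := by group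
          _ = x * ((t : Γ)⁻¹ * g) := by rw [← h3]; group
      rw [← inv_mul_eq_one.1 h1]
      exact t.2
    · intro hg
      exact ⟨⟨g, hg⟩, MulEquiv.ext fun x => Subtype.ext rfl⟩
  rw [relIndex, ← hk, index_ker]
  exact card_subgroup_dvd_card _

/-- `|M : S|` divides `|H : T|` -/
theorem Up.relIndex_dvd (u : Up X H T M S) : S.relIndex M ∣ T.relIndex H := by
  have hn : (S.subgroupOf M).Normal := u.socM.toNor.normal
  let f : H →* M ⧸ S.subgroupOf M := (QuotientGroup.mk' _).comp (inclusion u.ov.2)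
  have hs : Function.Surjective f := fun y => by
    obtain ⟨m, rfl⟩ := QuotientGroup.mk_surjective y
    rcases u.sec.le_or_mul u.ov u.socM.le (fun g hg => u.socM.conj g (u.ov.2 hg)) with h | h
    · exact absurd h u.not_le
    obtain ⟨g, hg, s, hs, e⟩ := h m m.2
    refine ⟨⟨g, hg⟩, QuotientGroup.eq.2 ?_⟩
    rw [mem_subgroupOf]
    show g⁻¹ * (m : Perm Ω) ∈ S
    rw [e, inv_mul_cancel_left]
    exact hs
  have h1 : f.ker.index = S.relIndex M := by
    rw [index_ker, f.range_eq_top_of_surjective hs, card_top]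
    rfl
  rw [← h1]
  refine index_dvd_of_le fun t ht => ?_
  rw [MonoidHom.mem_ker]
  exact (QuotientGroup.eq_one_iff _).2 (u.le ht)

/-- **`|M : S|` divides `|Out T|`** -/
theorem Up.relIndex_dvd_out (u : Up X H T M S) : S.relIndex M ∣ Nat.card (Out T) :=
  u.relIndex_dvd.trans u.socH.as.relIndex_dvd

theorem Up.pow_out_mem (u : Up X H T M S) {π : Perm Ω} (h : π ∈ M) : π ^ Nat.card (Out T) ∈ S := by
  have hn : (S.subgroupOf M).Normal := u.socM.toNor.normal
  obtain ⟨c, hc⟩ := u.relIndex_dvd_out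
  have h1 : (⟨π, h⟩ : M) ^ S.relIndex M ∈ S.subgroupOf M := (S.subgroupOf M).pow_index_mem ⟨π, h⟩
  rw [hc, pow_mul]
  exact pow_mem (mem_subgroupOf.1 h1) c

/-- **The normaliser trick**: a normalising permutation whose order modulo `S` is odd and prime to `|Out T|` lies in `S`. -/
theorem Up.mem_of_coprime (u : Up X H T M S) {π : Perm Ω} (h1 : π ∈ normalizer (S : Set (Perm Ω))) {k : ℕ} (hk : Odd k)
    (h2 : π ^ k ∈ S) (hc : k.Coprime (Nat.card (Out T))) : π ∈ S := by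
  have h3 := u.pow_out_mem (u.mem_of_odd h1 hk h2)
  have h4 : π ^ ((k.gcd (Nat.card (Out T)) : ℕ) : ℤ) ∈ S := by
    rw [Nat.gcd_eq_gcd_ab, zpow_add, zpow_mul, zpow_mul, zpow_natCast, zpow_natCast]
    exact S.mul_mem (S.zpow_mem h2 _) (S.zpow_mem h3 _)
  rwa [hc, Nat.cast_one, zpow_one] at h4

/-- **The normaliser trick in a model**: `γ` keeps the stabiliser of `a`, `γ ^ k` is inner (modulo the kernel of `φ`), `k`
is odd and prime to `|Out T|`; then `γ` is inner. -/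
theorem Up.inner {G : Type*} [Group G] (u : Up X H T M S) (φ : G →* Perm Ω) (hφ : φ.range = S) (γ : MulAut G) {a b : Ω}
    (h : ∀ g, φ g a = a ↔ φ (γ g) b = b) {k : ℕ} (hk : Odd k) (c : G) (hγ : ∀ g, φ ((γ ^ k) g) = φ (c * g * c⁻¹))
    (hc : k.Coprime (Nat.card (Out T))) : ∃ d : G, ∀ g, φ (γ g) = φ (d * g * d⁻¹) := by
  obtain ⟨π, -, hπ⟩ := exists_ind φ γ (fun x => by
    obtain ⟨t, ht, e⟩ := u.trans a x
    obtain ⟨g, rfl⟩ : t ∈ φ.range := hφ ▸ u.le ht
    exact ⟨g, e⟩) h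
  have h1 : π ^ k = φ c := u.eq_of_conj fun t ht => by
    obtain ⟨g, rfl⟩ : t ∈ φ.range := hφ ▸ u.le ht
    rw [hπ.pow k g, hγ, map_mul, map_mul, map_inv]
  obtain ⟨d, rfl⟩ : π ∈ φ.range := hφ ▸ u.mem_of_coprime (hφ ▸ hπ.mem_normalizer) hk (h1 ▸ hφ ▸ ⟨c, rfl⟩) hc
  exact ⟨d, fun g => by rw [← hπ g, map_mul, map_mul, map_inv]⟩

/-- **Rigidity on the level of the socles**: two socles in a group without the alternating group are equal. -/
theorem Up.eq_of_soc_le {M₁ S₁ M₂ S₂ Y : Subgroup (Perm Ω)} (u₁ : Up X H T M₁ S₁) (u₂ : Up X H T M₂ S₂) (h1 : S₁ ≤ Y)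
    (h2 : S₂ ≤ Y) (hY : ¬ alternatingGroup Ω ≤ Y) : M₁ = M₂ := by
  have hc : ∀ g ∈ H, ∀ x ∈ S₁ ⊔ S₂, g * x * g⁻¹ ∈ S₁ ⊔ S₂ := fun g hg x hx => by
    have h3 : S₁ ⊔ S₂ ≤ (S₁ ⊔ S₂).comap (MulAut.conj g).toMonoidHom :=
      sup_le (fun y hy => (le_sup_left : S₁ ≤ _) (u₁.socM.conj g (u₁.ov.2 hg) y hy))
        fun y hy => (le_sup_right : S₂ ≤ _) (u₂.socM.conj g (u₂.ov.2 hg) y hy)
    exact h3 hx
  have hH : H ≤ normalizer ((S₁ ⊔ S₂ : Subgroup (Perm Ω)) : Set (Perm Ω)) := fun g hg => by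
    rw [mem_normalizer_iff]
    refine fun x => ⟨hc g hg x, fun hx => ?_⟩
    have := hc g⁻¹ (H.inv_mem hg) _ hx
    simpa [mul_assoc] using this
  have key : ∀ {M S : Subgroup (Perm Ω)}, Up X H T M S → S ≤ S₁ ⊔ S₂ →
      M ≤ normalizer ((S₁ ⊔ S₂ : Subgroup (Perm Ω)) : Set (Perm Ω)) := fun {M S} u hS => by
    rcases u.sec.le_or_sup u.ov u.socM.le with h | h
    · exact absurd h u.not_le
    · rw [← h]
      exact sup_le hH (hS.trans le_normalizer)
  refine u₁.sec.eq_of_le_of_le u₁.ov u₂.ov (key u₁ le_sup_left) (key u₂ le_sup_right) fun hA => hY ?_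
  refine (alt_le_of_conj u₁.sec.five (fun e => u₁.socM.ne ?_) fun g hg x hx =>
    (mem_normalizer_iff.1 (hA hg) x).1 hx).trans (sup_le h1 h2)
  exact le_bot_iff.1 (e ▸ le_sup_left)

/-- **Counting by `S_a`-invariant sets** (only the socle has to keep the set). -/
theorem ncard_le_of_soc_nbhd (a : Ω) {O : Set (Subgroup (Perm Ω))} {𝒟 : Set (Set Ω)}
    (h : ∀ M ∈ O, ∃ S, Up X H T M S ∧ ∃ Δ ∈ 𝒟, (∀ g ∈ S, g a = a → ∀ x ∈ Δ, g x ∈ Δ) ∧ (∃ b ∈ Δ, b ≠ a) ∧ ∃ c ∉ Δ, c ≠ a) :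
    O.ncard ≤ 𝒟.ncard := by
  let r : Set Ω → (Fin 2 → Ω) → Prop := fun Δ x => ∃ g ∈ T, g a = x 0 ∧ g⁻¹ (x 1) ∈ Δ
  refine ncard_le_of_col (Set.toFinite 𝒟)
    (fun M Δ => ∃ S, Up X H T M S ∧ S ≤ relStab (r Δ) ∧ ¬ alternatingGroup Ω ≤ relStab (r Δ)) (fun M hM => ?_) ?_
  swap
  · rintro M - M' - Δ - ⟨S, u, k1, k2⟩ ⟨S', u', k3, -⟩
    exact u.eq_of_soc_le u' k1 k3 k2
  obtain ⟨S, u, Δ, hΔ, h1, ⟨b, hb, hba⟩, c, hc, hca⟩ := h M hM
  have inj : ∀ {z : Ω}, z ≠ a → Function.Injective ![a, z] := fun {z} hz i j e => by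
    fin_cases i <;> fin_cases j
    · rfl
    · exact absurd e.symm hz
    · exact absurd e hz
    · rfl
  refine ⟨Δ, hΔ, S, u, le_relStab ?_, not_alt_le_relStab (le_trans (by norm_num) u.sec.five) (inj hba) (inj hca)
    ⟨1, T.one_mem, rfl, hb⟩ ?_⟩
  · rintro m hm x ⟨g, hg, e, hx⟩
    obtain ⟨g', hg', e'⟩ := u.trans a (m (x 0))
    refine ⟨g', hg', e', ?_⟩
    have h2 := h1 (g'⁻¹ * m * g) (S.mul_mem (S.mul_mem (S.inv_mem (u.le hg')) hm) (u.le hg))
      (Perm.inv_eq_iff_eq.2 (by rw [e', ← e])) _ hx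
    simpa using h2
  · rintro ⟨g, hg, e, hx⟩
    have h2 := h1 g (u.le hg) e _ hx
    exact hc (by simpa using h2)

end Cfsg.Agent.SM
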