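import Cfsg.Agent.SM.Defs
import Cfsg.Agent.S5758
import Cfsg.Agent.S3749
import Cfsg.Agent.H855.RC.Small

/-!
# SM (S3570): from `Up` to `Fac`, and the free facts on a factorisation (helper32)
-/

set_option autoImplicit false
set_option linter.unusedSectionVars false

namespace Cfsg.Agent.SM

open Cfsg Equiv Subgroup MulAction

section abstract

variable {Γ : Type} [Group Γ] {X T N Y A : Subgroup Γ}

theorem AS.ne_bot (h : AS X T) : T ≠ ⊥ := by
  have := h.simple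
  exact (Subgroup.nontrivial_iff_ne_bot T).1 inferInstance

theorem AS.le_normalizer (h : AS X T) : X ≤ normalizer (T : Set Γ) := fun g hg => by
  rw [mem_normalizer_iff]
  refine fun x => ⟨h.conj g hg x, fun hx => ?_⟩
  simpa [mul_assoc] using h.conj g⁻¹ (X.inv_mem hg) _ hx

theorem AS.mono (h : AS X T) (h1 : T ≤ Y) (h2 : Y ≤ X) : AS Y T :=
  ⟨h1, fun g hg => h.conj g (h2 hg), h.simple, h.nab, fun g hg => h.cen g (h2 hg)⟩

/-- a `T`-invariant subgroup meets `T` trivially or contains it -/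
theorem AS.inf_or_le (h : AS X T) (hc : ∀ g ∈ T, ∀ x ∈ N ⊓ T, g * x * g⁻¹ ∈ N) : N ⊓ T = ⊥ ∨ T ≤ N := by
  have := h.simple
  have hn : (N.subgroupOf T).Normal := ⟨fun x hx g => hc g g.2 x ⟨hx, x.2⟩⟩
  rcases hn.eq_bot_or_eq_top with k | k
  · exact Or.inl (disjoint_iff.1 (subgroupOf_eq_bot.1 k))
  · exact Or.inr (subgroupOf_eq_top.1 k)

/-- a non-trivial `T`-invariant subgroup of `X` contains `T` -/
theorem AS.le_of_conj (h : AS X T) (hN : N ≤ X) (hc : ∀ g ∈ T, ∀ x ∈ N, g * x * g⁻¹ ∈ N) (h0 : N ≠ ⊥) : T ≤ N := by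
  rcases h.inf_or_le (N := N) (fun g hg x hx => hc g hg x hx.1) with k | k
  · refine absurd (eq_bot_iff.2 fun x hx => mem_bot.2 (h.cen x (hN hx) fun t ht => ?_)) h0
    have h1 : t * x * t⁻¹ * x⁻¹ ∈ N ⊓ T :=
      ⟨N.mul_mem (hc t ht x hx) (N.inv_mem hx), by
        rw [show t * x * t⁻¹ * x⁻¹ = t * (x * t⁻¹ * x⁻¹) by group]
        exact T.mul_mem ht (h.conj x (hN hx) _ (T.inv_mem ht))⟩
    rw [k, mem_bot] at h1
    calc x * t = (t * x * t⁻¹ * x⁻¹)⁻¹ * (t * x) := by group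
      _ = t * x := by rw [h1, inv_one, one_mul]
  · exact k

theorem AS.not_solvable (h : AS X T) : ¬ Group.IsSolvable T := fun hs => by
  have := h.simple
  exact h.nab ⟨⟨IsSimpleGroup.comm_iff_isSolvable.2 hs⟩⟩

/-- conjugation `X → Aut T` -/
def AS.aut (h : AS X T) : X →* MulAut T := (normalizerMonoidHom T).comp (inclusion h.le_normalizer)

theorem AS.aut_apply (h : AS X T) (g : X) (t : T) : (h.aut g t : Γ) = g * t * g⁻¹ := rfl

theorem AS.aut_injective (h : AS X T) : Function.Injective h.aut := by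
  rw [injective_iff_map_eq_one]
  intro g hg
  refine Subtype.ext (h.cen g g.2 fun t ht => ?_)
  have h1 := h.aut_apply g ⟨t, ht⟩
  rw [hg] at h1
  have h2 : t = g * t * (g : Γ)⁻¹ := h1
  exact mul_inv_eq_iff_eq_mul.1 h2.symm

/-- **Schreier** -/
theorem AS.solvable [Finite Γ] (h : AS X T) (hY : Y ≤ X) (h0 : Y ⊓ T = ⊥) : Group.IsSolvable Y := by
  have := h.simple
  have := S5758.result (G := T)
  refine Group.isSolvable_of_isSolvable_injective (f := ((QuotientGroup.mk' (Inn T)).comp h.aut).comp (inclusion hY)) ?_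
  rw [injective_iff_map_eq_one]
  intro y hy
  obtain ⟨s, hs⟩ := (QuotientGroup.eq_one_iff _).1 hy
  have h1 : (s : Γ)⁻¹ * y = 1 := h.cen _ (X.mul_mem (X.inv_mem (h.le s.2)) (hY y.2)) fun t ht => by
    have h2 : (s : Γ) * t * (s : Γ)⁻¹ = y * t * (y : Γ)⁻¹ :=
      congrArg (fun φ : MulAut T => (φ ⟨t, ht⟩ : Γ)) hs
    calc (s : Γ)⁻¹ * y * t = (s : Γ)⁻¹ * (y * t * (y : Γ)⁻¹) * y := by group
      _ = t * ((s : Γ)⁻¹ * y) := by rw [← h2]; group
  have h3 : (y : Γ) ∈ Y ⊓ T := ⟨y.2, by rw [← inv_mul_eq_one.1 h1]; exact s.2⟩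
  rw [h0, mem_bot] at h3
  exact Subtype.ext h3

theorem isCoatom_of_covBy (h : A ⋖ X) : IsCoatom (A.subgroupOf X) := by
  refine ⟨fun k => h.lt.not_ge (subgroupOf_eq_top.1 k), fun K hK => ?_⟩
  have h1 : A ≤ K.map X.subtype := fun a ha => ⟨⟨a, h.le ha⟩, hK.le ha, rfl⟩
  rcases h.eq_or_eq h1 (map_subtype_le K) with k | k
  · refine absurd (fun x hx => ?_) hK.not_ge
    have h2 : (x : Γ) ∈ K.map X.subtype := ⟨x, hx, rfl⟩
    rwa [k] at h2
  · refine eq_top_iff.2 fun x _ => ?_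
    obtain ⟨y, hy, e⟩ : (x : Γ) ∈ K.map X.subtype := k.symm ▸ x.2
    rwa [← Subtype.ext e]

/-- a maximal subgroup of an almost simple group meets the socle -/
theorem AS.inf_ne_bot [Finite Γ] (h : AS X T) (hA : A ⋖ X) (hT : ¬ T ≤ A) : T ⊓ A ≠ ⊥ := by
  intro h0
  have hs : Group.IsSolvable A := h.solvable hA.le (by rw [inf_comm, h0])
  have hc := isCoatom_of_covBy hA
  have e := (subgroupOfEquivOfLe hA.le)
  have hs' : Group.IsSolvable (A.subgroupOf X) := Group.isSolvable_of_isSolvable_injective (f := e.toMonoidHom) e.injective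
  have hA0 : A ≠ ⊥ := by
    rintro rfl
    obtain ⟨t, ht, h1⟩ := (bot_or_exists_ne_one T).resolve_left h.ne_bot
    rcases hA.eq_or_eq (bot_le : ⊥ ≤ zpowers t) (zpowers_le.2 (h.le ht)) with k | k
    · exact h1 (zpowers_eq_bot.1 k)
    · refine h.nab ⟨⟨fun a b => Subtype.ext ?_⟩⟩
      obtain ⟨i, hi⟩ : (a : Γ) ∈ zpowers t := k.symm ▸ h.le a.2
      obtain ⟨j, hj⟩ : (b : Γ) ∈ zpowers t := k.symm ▸ h.le b.2
      show (a : Γ) * b = b * a
      rw [← hi, ← hj]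
      exact (Commute.zpow_zpow_self t i j).eq
  have : Nontrivial A := (Subgroup.nontrivial_iff_ne_bot A).2 hA0
  have : Nontrivial (A.subgroupOf X) := e.symm.injective.nontrivial
  obtain ⟨p, hp, hO⟩ := H855.RC.exists_core (G := A.subgroupOf X)
  have : Fact p.Prime := ⟨hp⟩
  have : (T.subgroupOf X).Normal := ⟨fun x hx g => h.conj g g.2 x hx⟩
  refine (S3749.result (A.subgroupOf X) hc.1 (fun K h1 h2 h3 => ?_) hO (T.subgroupOf X) ?_).2.2 ?_ hc
  · rcases hc.le_iff.1 h2 with k | k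
    · refine absurd ((h.le_of_conj (map_subtype_le K) ?_ fun k => h3 ((map_eq_bot_iff_of_injective _
        X.subtype_injective).1 k)).trans ?_) hT
      · rintro g hg _ ⟨x, hx, rfl⟩
        have h4 : (⟨g, h.le hg⟩ : X) ∈ normalizer (K : Set X) := k.symm ▸ mem_top _
        exact ⟨_, (mem_normalizer_iff.1 h4 x).1 hx, rfl⟩
      · rintro _ ⟨x, hx, rfl⟩
        exact h1 hx
    · exact k
  · refine eq_bot_iff.2 fun x hx => mem_bot.2 (Subtype.ext ?_)
    have h4 : (x : Γ) ∈ T ⊓ A := ⟨hx.2, hx.1⟩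
    rwa [h0, mem_bot] at h4
  · rw [Nat.card_congr (subgroupOfEquivOfLe h.le).toEquiv]
    by_contra hn
    have := h.simple
    have h1 : Nat.card T ≠ 1 := Finite.one_lt_card.ne'
    have : Fact (Nat.card T).minFac.Prime := ⟨Nat.minFac_prime h1⟩
    have h2 : IsPGroup (Nat.card T).minFac T := IsPGroup.iff_card.2 ⟨_, Nat.eq_prime_pow_of_unique_prime_dvd
      Nat.card_pos.ne' fun {d} hd hdd => by
        by_contra hne
        exact hn ⟨d, _, hd, Nat.minFac_prime h1, hne, hdd, Nat.minFac_dvd _⟩⟩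
    have := h2.isNilpotent
    exact h.not_solvable inferInstance

/-- between a maximal subgroup `A` and `X`: an `A`-invariant subgroup lies in `A` or supplements it -/
theorem le_or_mul_of_covBy (hA : A ⋖ X) (hN : N ≤ X) (hc : ∀ g ∈ A, ∀ x ∈ N, g * x * g⁻¹ ∈ N) :
    N ≤ A ∨ ∀ m ∈ X, ∃ a ∈ A, ∃ x ∈ N, m = a * x := by
  let K : Subgroup Γ :=
    { carrier := {m | ∃ h ∈ A, ∃ x ∈ N, m = h * x}
      one_mem' := ⟨1, A.one_mem, 1, N.one_mem, by simp⟩
      mul_mem' := by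
        rintro _ _ ⟨h, hh, x, hx, rfl⟩ ⟨k, hk, y, hy, rfl⟩
        exact ⟨h * k, A.mul_mem hh hk, k⁻¹ * x * k⁻¹⁻¹ * y, N.mul_mem (hc _ (A.inv_mem hk) x hx) hy, by group⟩
      inv_mem' := by
        rintro _ ⟨h, hh, x, hx, rfl⟩
        exact ⟨h⁻¹, A.inv_mem hh, h * x⁻¹ * h⁻¹, hc h hh _ (N.inv_mem hx), by group⟩ }
  have h1 : A ≤ K := fun h hh => ⟨h, hh, 1, N.one_mem, by simp⟩
  have h2 : K ≤ X := by
    rintro _ ⟨h, hh, x, hx, rfl⟩
    exact X.mul_mem (hA.le hh) (hN hx)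
  rcases hA.eq_or_eq h1 h2 with h | h
  · exact Or.inl fun x hx => h ▸ (⟨1, A.one_mem, x, hx, by simp⟩ : x ∈ K)
  · exact Or.inr fun m hm => (h ▸ hm : m ∈ K)

/-- **Maximality on the level of the socle**: an `A`-invariant subgroup `Y` with `T ⊓ A ≤ Y ≤ T` is one of the two. -/
theorem AS.eq_or_eq (h : AS X T) (hA : A ⋖ X) (h1 : T ⊓ A ≤ Y) (h2 : Y ≤ T) (hc : ∀ g ∈ A, ∀ x ∈ Y, g * x * g⁻¹ ∈ Y) :
    Y = T ⊓ A ∨ Y = T := by
  rcases le_or_mul_of_covBy hA (h2.trans h.le) hc with k | k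
  · exact Or.inl (le_antisymm (le_inf h2 k) h1)
  · refine Or.inr (le_antisymm h2 fun t ht => ?_)
    obtain ⟨a, ha, y, hy, rfl⟩ := k t (h.le ht)
    exact Y.mul_mem (h1 ⟨by simpa using T.mul_mem ht (T.inv_mem (h2 hy)), ha⟩) hy

/-- **Normalisers**: a non-trivial `A`-invariant subgroup `Y ≤ A` has normaliser `A` in `X`. -/
theorem AS.mem_of_norm (h : AS X T) (hA : A ⋖ X) (hT : ¬ T ≤ A) (hY : Y ≤ A) (h0 : Y ≠ ⊥)
    (hc : ∀ g ∈ A, ∀ x ∈ Y, g * x * g⁻¹ ∈ Y) {g : Γ} (hg : g ∈ X) (hn : g ∈ normalizer (Y : Set Γ)) : g ∈ A := by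
  have h1 : A ≤ X ⊓ normalizer (Y : Set Γ) := fun a ha => ⟨hA.le ha, mem_normalizer_iff.2 fun x =>
    ⟨hc a ha x, fun hx => by simpa [mul_assoc] using hc a⁻¹ (A.inv_mem ha) _ hx⟩⟩
  rcases hA.eq_or_eq h1 inf_le_left with k | k
  · exact k ▸ (⟨hg, hn⟩ : g ∈ X ⊓ normalizer (Y : Set Γ))
  · exact absurd ((h.le_of_conj (hY.trans hA.le) (fun t ht x hx =>
      (mem_normalizer_iff.1 ((inf_eq_left.1 k) (h.le ht)) x).1 hx) h0).trans hY) hT

variable {M S H B : Subgroup Γ}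

/-- `T` has trivial centraliser in `M` -/
theorem Fac.cen (f : Fac M S H T B) {g : Γ} (hg : g ∈ M) (hc : ∀ t ∈ T, g * t = t * g) : g = 1 :=
  f.asH.cen g (f.asM.mem_of_norm f.hm f.nH f.asH.le f.asH.ne_bot f.asH.conj hg (mem_normalizer_iff.2 fun x =>
    ⟨fun hx => by rwa [hc x hx, mul_inv_cancel_right], fun hx => by
      have h1 := hc _ hx
      have h2 : x = g * x * g⁻¹ := by
        calc x = g⁻¹ * (g * x * g⁻¹ * g) := by group
          _ = g * x * g⁻¹ := by rw [← h1]; group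
      rwa [h2]⟩)) hc

/-- `H` is the normaliser of `T` in `M` -/
theorem Fac.mem_H (f : Fac M S H T B) {g : Γ} (hg : g ∈ M) (hn : g ∈ normalizer (T : Set Γ)) : g ∈ H :=
  f.asM.mem_of_norm f.hm f.nH f.asH.le f.asH.ne_bot f.asH.conj hg hn

theorem Fac.not_le (f : Fac M S H T B) : ¬ T ≤ H ⊓ B := fun k => f.nT (k.trans inf_le_right)

theorem Fac.inf_eq (f : Fac M S H T B) : T ⊓ (H ⊓ B) = T ⊓ B := by
  rw [← inf_assoc, inf_eq_left.2 f.asH.le]

/-- primitivity of `H`: an `H ⊓ B`-invariant subgroup between `T ⊓ B` and `T` is one of the two -/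
theorem Fac.prim (f : Fac M S H T B) (h1 : T ⊓ B ≤ Y) (h2 : Y ≤ T) (hc : ∀ g ∈ H ⊓ B, ∀ x ∈ Y, g * x * g⁻¹ ∈ Y) :
    Y = T ⊓ B ∨ Y = T := by
  have := f.asH.eq_or_eq f.pr (f.inf_eq ▸ h1) h2 hc
  rwa [f.inf_eq] at this

/-- `H = (H ⊓ B) T` -/
theorem Fac.facT (f : Fac M S H T B) : ∀ h ∈ H, ∃ a ∈ H ⊓ B, ∃ t ∈ T, h = a * t :=
  (le_or_mul_of_covBy f.pr f.asH.le fun g hg => f.asH.conj g hg.1).resolve_left f.not_le

/-- the order formula `|S| |T ⊓ B| = |T| |S ⊓ B|` -/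
theorem Fac.relIndex_eq [Finite Γ] (f : Fac M S H T B) : B.relIndex T = B.relIndex S := by
  have k : ∀ Z : Subgroup Γ, B.relIndex Z = (orbit Z ((1 : Γ) : Γ ⧸ B)).ncard := fun Z => by
    rw [← index_stabilizer, relIndex]
    congr 1
    ext u
    rw [mem_stabilizer_iff, mem_subgroupOf]
    show _ ↔ (((u : Γ) * 1 : Γ) : Γ ⧸ B) = ((1 : Γ) : Γ ⧸ B)
    rw [eq_comm, QuotientGroup.eq, inv_one, one_mul, mul_one]
  rw [k, k]
  congr 1
  ext x
  constructor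
  · rintro ⟨t, rfl⟩
    exact ⟨⟨t, f.le t.2⟩, rfl⟩
  · rintro ⟨s, rfl⟩
    obtain ⟨t, ht, b, hb, e⟩ := f.fac s s.2
    refine ⟨⟨t, ht⟩, ?_⟩
    show ((t * 1 : Γ) : Γ ⧸ B) = (((s : Γ) * 1 : Γ) : Γ ⧸ B)
    rw [QuotientGroup.eq, e]
    simpa using hb

end abstract

section perm

variable {Ω : Type} [Fintype Ω] [DecidableEq Ω] {X H T M S : Subgroup (Perm Ω)}

theorem Up.hm (u : Up X H T M S) : H ⋖ M := u.sec.cov M u.ov

theorem Up.not_alt (u : Up X H T M S) : ¬ alternatingGroup Ω ≤ M := u.sec.not_alt_le u.ov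

theorem Up.le (u : Up X H T M S) : T ≤ S := by
  rcases u.socH.as.inf_or_le (N := S) (fun g hg x hx => u.socM.conj g (u.ov.2 (u.socH.le hg)) x hx.1) with k | k
  · exact absurd (u.socM.as.solvable (u.socH.le.trans u.ov.2) (by rw [inf_comm, k])) u.socH.as.not_solvable
  · exact k

theorem Up.not_le (u : Up X H T M S) : ¬ S ≤ H := fun k => u.ne (le_antisymm (u.socM.as.le_of_conj
  (u.socH.le.trans u.ov.2) (fun g hg => u.socH.conj g (k hg)) u.socH.ne) u.le)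

/-- the socle of a primitive group is transitive -/
theorem Soc.trans (h : Soc H T) (hp : IsPreprimitive H Ω) (a b : Ω) : ∃ t ∈ T, t a = b := by
  have := h.toNor.normal
  obtain ⟨t, ht, h1⟩ := (bot_or_exists_ne_one T).resolve_left h.ne
  have h2 : fixedPoints (T.subgroupOf H) Ω ≠ ⊤ := fun k => h1 (Perm.ext fun x => by
    have h3 : x ∈ fixedPoints (T.subgroupOf H) Ω := k.symm ▸ Set.mem_univ x
    exact h3 ⟨⟨t, h.le ht⟩, ht⟩)
  obtain ⟨g, hg⟩ := (IsQuasiPreprimitive.isPretransitive_of_normal h2).exists_smul_eq a b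
  exact ⟨g.1.1, g.2, hg⟩

theorem stab_covBy (hp : IsPreprimitive H Ω) (h2 : 2 ≤ Fintype.card Ω) (a : Ω) : H ⊓ stabilizer (Perm Ω) a ⋖ H := by
  have : Nontrivial Ω := Fintype.one_lt_card_iff_nontrivial.1 h2
  have hc := IsPreprimitive.isCoatom_stabilizer_of_isPreprimitive H a
  refine ⟨lt_of_le_of_ne inf_le_left fun k => hc.1 (eq_top_iff.2 fun g _ => (inf_eq_left.1 k g.2 :)), fun K h3 h4 => ?_⟩
  have h5 : stabilizer H a < K.subgroupOf H := by
    refine lt_of_le_of_ne (fun g hg => h3.le ⟨g.2, hg⟩) fun k => h3.not_ge fun g hg => ⟨h4.le hg, ?_⟩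
    have h6 : (⟨g, h4.le hg⟩ : H) ∈ stabilizer H a := k.symm ▸ hg
    exact h6
  exact h4.not_ge (subgroupOf_eq_top.1 (hc.2 _ h5))

theorem Soc.not_le_stab (h : Soc H T) (hp : IsPreprimitive H Ω) (h2 : 2 ≤ Fintype.card Ω) (a : Ω) :
    ¬ T ≤ stabilizer (Perm Ω) a := fun k => by
  have : Nontrivial Ω := Fintype.one_lt_card_iff_nontrivial.1 h2
  obtain ⟨b, hb⟩ := exists_ne a
  obtain ⟨t, ht, e⟩ := h.trans hp a b
  exact hb (e.symm.trans (k ht))

/-- the stabiliser in the socle fixes one point only -/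
theorem Soc.eq_of_fix (h : Soc H T) (hp : IsPreprimitive H Ω) (h2 : 2 ≤ Fintype.card Ω) {a b : Ω}
    (hb : ∀ t ∈ T, t a = a → t b = b) : b = a := by
  have hA := stab_covBy hp h2 a
  have hT : ¬ T ≤ H ⊓ stabilizer (Perm Ω) a := fun k => h.not_le_stab hp h2 a (k.trans inf_le_right)
  obtain ⟨g, hg, rfl⟩ := h.trans hp a b
  have hn : g⁻¹ ∈ normalizer ((T ⊓ (H ⊓ stabilizer (Perm Ω) a) : Subgroup (Perm Ω)) : Set (Perm Ω)) := by
    refine mem_normalizer_fintype fun y hy => ?_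
    have h3 : g⁻¹ * y * g⁻¹⁻¹ ∈ T := T.mul_mem (T.mul_mem (T.inv_mem hg) hy.1) (T.inv_mem (T.inv_mem hg))
    refine ⟨h3, h.le h3, ?_⟩
    show g⁻¹ (y (g⁻¹⁻¹ a)) = a
    rw [inv_inv, hb y hy.1 hy.2.2, Perm.inv_eq_iff_eq]
  have k := (h.as.mem_of_norm hA hT (Y := T ⊓ (H ⊓ stabilizer (Perm Ω) a)) inf_le_right (h.as.inf_ne_bot hA hT)
    (fun x hx y hy => ⟨h.conj x hx.1 y hy.1, Subgroup.mul_mem _ (Subgroup.mul_mem _ hx hy.2) (Subgroup.inv_mem _ hx)⟩)
    (H.inv_mem (h.le hg)) hn).2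
  have k' : g⁻¹ a = a := k
  exact (Perm.inv_eq_iff_eq.1 k').symm

/-- the socle has trivial centraliser in the symmetric group -/
theorem Soc.cen_sym (h : Soc H T) (hp : IsPreprimitive H Ω) (h2 : 2 ≤ Fintype.card Ω) {g : Perm Ω}
    (hg : ∀ t ∈ T, g * t = t * g) : g = 1 :=
  Perm.ext fun a => h.eq_of_fix hp h2 (a := a) (b := g a) fun t ht e => by
    have h3 : g (t a) = t (g a) := congrArg (fun x : Perm Ω => x a) (hg t ht)
    rw [← h3, e]

theorem Up.two (u : Up X H T M S) : 2 ≤ Fintype.card Ω := le_trans (by norm_num) u.sec.five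

theorem Up.primM (u : Up X H T M S) : IsPreprimitive M Ω := prim_of_le u.ov.2 u.prim

theorem Up.trans (u : Up X H T M S) (a b : Ω) : ∃ t ∈ T, t a = b := u.socH.trans u.prim a b

theorem Up.cen (u : Up X H T M S) {g : Perm Ω} (hg : ∀ t ∈ T, g * t = t * g) : g = 1 := u.socH.cen_sym u.prim u.two hg

theorem Up.fac (u : Up X H T M S) (a : Ω) : Fac M S H T (M ⊓ stabilizer (Perm Ω) a) := by
  have e : H ⊓ (M ⊓ stabilizer (Perm Ω) a) = H ⊓ stabilizer (Perm Ω) a := by rw [← inf_assoc, inf_eq_left.2 u.ov.2]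
  have hA := stab_covBy u.prim u.two a
  have hT := u.socH.not_le_stab u.prim u.two a
  refine ⟨u.socM.as, u.socH.as, u.le, u.ne.symm, u.hm, stab_covBy u.primM u.two a, u.not_le,
    fun k => hT (u.le.trans (k.trans inf_le_right)), fun k => hT (k.trans inf_le_right), e.symm ▸ hA, fun k => ?_,
    fun s hs => ?_, fun m hm => ?_⟩
  · refine u.socH.as.inf_ne_bot hA (fun k => hT (k.trans inf_le_right)) (eq_bot_iff.2 (k ▸ ?_))
    exact inf_le_inf_left _ (inf_le_inf_right _ u.ov.2)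
  · obtain ⟨t, ht, h1⟩ := u.trans a (s a)
    refine ⟨t, ht, t⁻¹ * s, ⟨M.mul_mem (M.inv_mem (u.socM.le (u.le ht))) (u.socM.le hs), ?_⟩, by group⟩
    show t⁻¹ (s a) = a
    rw [← h1, Perm.inv_eq_iff_eq]
  · obtain ⟨h, hh, s, hs, rfl⟩ := (le_or_mul_of_covBy u.hm u.socM.le fun g hg => u.socM.conj g (u.ov.2 hg)).resolve_left
      u.not_le m hm
    obtain ⟨t, ht, h1⟩ := u.trans a (h⁻¹ a)
    refine ⟨h * t, e.symm ▸ ⟨H.mul_mem hh (u.socH.le ht), ?_⟩, t⁻¹ * s, S.mul_mem (S.inv_mem (u.le ht)) hs, by group⟩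
    show h (t a) = a
    rw [h1, Perm.eq_inv_iff_eq.1 rfl]

/-- the degree is the index of the stabiliser in `T` -/
theorem Up.relIndex (u : Up X H T M S) (a : Ω) : (M ⊓ stabilizer (Perm Ω) a).relIndex T = Fintype.card Ω := by
  have h1 : orbit T a = Set.univ := Set.eq_univ_of_forall fun b => by
    obtain ⟨t, ht, e⟩ := u.trans a b
    exact ⟨⟨t, ht⟩, e⟩
  have h2 := index_stabilizer T a
  rw [h1, Set.ncard_univ, Nat.card_eq_fintype_card] at h2
  rw [← h2, Subgroup.relIndex]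
  congr 1
  ext t
  exact ⟨fun k => k.2, fun k => ⟨u.socM.le (u.le t.2), k⟩⟩

/-- **No chain**: a group `Y ≥ M` without the alternating group meets `X` in `M`. -/
theorem Up.mem_of_le (u : Up X H T M S) {Y : Subgroup (Perm Ω)} (hY : M ≤ Y) (hA : ¬ alternatingGroup Ω ≤ Y) {g : Perm Ω}
    (h1 : g ∈ Y) (h2 : g ∈ alternatingGroup Ω) : g ∈ M :=
  (u.sec.eq_inf u.ov hY hA).symm ▸ (⟨u.sec.alt h2, h1⟩ : g ∈ X ⊓ Y)

end perm

theorem boxFac : BoxFac := fun _ _ _ _ _ _ _ _ u => ⟨u.fac, u.trans, fun _ => u.cen⟩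

end Cfsg.Agent.SM
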