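import Cfsg.Prelude.Def_Classification2
import Cfsg.Agent.SM.Base

/-!
# SM (S3570): the almost simple box, split by the family of the socle `S` (helper32, plan in `notes/SM/plan.md`)

* `Up X H T M S`: `H` second maximal, primitive, almost simple with socle `T`; `M ∈ Ov X H` almost simple with socle `S ≠ T`.
* `Fac M S H T B`: the abstract factorisation `S = T (B ⊓ S)` (`B` a point stabiliser of `M`) in any ambient group.
* `Bnd P R`: if some overgroup has its socle in the family `P`, then `R |T| |Ω| k` holds for some `k` which bounds the number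
  of such overgroups (`R` = the table of the rows of the family: order of `T`, degree, bound).
-/

set_option autoImplicit false
set_option linter.unusedSectionVars false

namespace Cfsg.Agent.SM

open Cfsg Equiv Subgroup MulAction

/-- a family of groups -/
abbrev Fam := ∀ (T : Type) [Group T], Prop

/-- `X` is almost simple with socle `T` (any ambient group) -/
structure AS {Γ : Type} [Group Γ] (X T : Subgroup Γ) : Prop where
  le : T ≤ X
  conj : ∀ g ∈ X, ∀ x ∈ T, g * x * g⁻¹ ∈ T
  simple : IsSimpleGroup T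
  nab : ¬ IsMulCommutative T
  cen : ∀ g ∈ X, (∀ t ∈ T, g * t = t * g) → g = 1

/-- The abstract factorisation: `M` is almost simple with socle `S`, `H` and `B` are maximal in `M` and do not contain `S`,
`H` is almost simple with socle `T < S`, `H ⊓ B` is maximal in `H`, `1 < T ⊓ B < T`, and `S = T (B ⊓ S)`, `M = H S = B S`,
`H = (H ⊓ B) T`. -/
structure Fac {Γ : Type} [Group Γ] (M S H T B : Subgroup Γ) : Prop where
  asM : AS M S
  asH : AS H T
  le : T ≤ S
  ne : T ≠ S
  hm : H ⋖ M
  bm : B ⋖ M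
  nH : ¬ S ≤ H
  nB : ¬ S ≤ B
  nT : ¬ T ≤ B
  pr : H ⊓ B ⋖ H
  nb : T ⊓ B ≠ ⊥
  fac : ∀ s ∈ S, ∃ t ∈ T, ∃ b ∈ B, s = t * b
  facH : ∀ m ∈ M, ∃ h ∈ H ⊓ B, ∃ s ∈ S, m = h * s

section perm

variable {Ω : Type} [Fintype Ω] [DecidableEq Ω]

theorem Soc.as {M T : Subgroup (Perm Ω)} (h : Soc M T) : AS M T := ⟨h.le, h.conj, h.simple, h.nab, h.cen⟩

/-- `H` second maximal, primitive, almost simple with socle `T`; `M` an almost simple overgroup with socle `S ≠ T` -/
structure Up (X H T M S : Subgroup (Perm Ω)) : Prop where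
  sec : Sec X H
  prim : IsPreprimitive H Ω
  socH : Soc H T
  ov : M ∈ Ov X H
  socM : Soc M S
  ne : S ≠ T

/-- the overgroups with socle in the family `P` -/
def OvP (P : Fam) (X H T : Subgroup (Perm Ω)) : Set (Subgroup (Perm Ω)) := {M | ∃ S, Up X H T M S ∧ P S}

/-- **Counting by invariant structures**: every member of `O` lies in one of `k` groups `Y i` without the alternating group. -/
theorem Sec.ncard_le_of_cover {X H : Subgroup (Perm Ω)} (s : Sec X H) {O : Set (Subgroup (Perm Ω))} {k : ℕ}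
    (Y : Fin k → Subgroup (Perm Ω)) (h : ∀ M ∈ O, M ∈ Ov X H ∧ ∃ i, M ≤ Y i ∧ ¬ alternatingGroup Ω ≤ Y i) :
    O.ncard ≤ k := by
  rcases O.eq_empty_or_nonempty with rfl | ⟨M₀, h₀⟩
  · simp
  have : Nonempty (Fin k) := ⟨(h M₀ h₀).2.choose⟩
  choose! f hf using fun M (hM : M ∈ O) => (h M hM).2
  have h1 := Set.ncard_le_ncard_of_injOn (s := O) (t := (Set.univ : Set (Fin k))) f (fun _ _ => Set.mem_univ _)
    (fun M hM M' hM' e => s.eq_of_le_of_le (h M hM).1 (h M' hM').1 (hf M hM).1 (e ▸ (hf M' hM').1) (hf M hM).2)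
  rwa [Set.ncard_univ, Nat.card_eq_fintype_card, Fintype.card_fin] at h1

end perm

/-- a table of rows: order of `T`, degree, bound on the number of overgroups -/
abbrev Tab := ℕ → ℕ → ℕ → Prop

/-- the overgroups with socle in `P` are bounded by a row of the table `R` -/
def Bnd (P : Fam) (R : Tab) : Prop :=
  ∀ (Ω : Type) [Fintype Ω] [DecidableEq Ω] (X H T : Subgroup (Perm Ω)), (OvP P X H T).Nonempty →
    ∃ k, R (Nat.card T) (Fintype.card Ω) k ∧ (OvP P X H T).ncard ≤ k

theorem Bnd.mono {P : Fam} {R R' : Tab} (h : Bnd P R) (hR : ∀ t n k, R t n k → ∃ k', k ≤ k' ∧ R' t n k') : Bnd P R' :=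
  fun Ω _ _ X H T hn => by
    obtain ⟨k, h1, h2⟩ := h Ω X H T hn
    obtain ⟨k', h3, h4⟩ := hR _ _ _ h1
    exact ⟨k', h4, h2.trans h3⟩

/-- no overgroup has its socle in `P` -/
def Nil (P : Fam) : Prop :=
  ∀ (Ω : Type) [Fintype Ω] [DecidableEq Ω] (X H T M S : Subgroup (Perm Ω)), Up X H T M S → P S → False

theorem Nil.bnd {P : Fam} (h : Nil P) (R : Tab) : Bnd P R := fun Ω _ _ X H T ⟨M, S, h1, h2⟩ => (h Ω X H T M S h1 h2).elim

/-- from the permutation group to the abstract factorisation (`SM/Fac.lean`); `T` has trivial centraliser in `Sym Ω` -/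
def BoxFac : Prop :=
  ∀ (Ω : Type) [Fintype Ω] [DecidableEq Ω] (X H T M S : Subgroup (Perm Ω)), Up X H T M S →
    (∀ a : Ω, Fac M S H T (M ⊓ stabilizer (Perm Ω) a)) ∧ (∀ a b : Ω, ∃ t ∈ T, t a = b) ∧
      ∀ g : Perm Ω, (∀ t ∈ T, g * t = t * g) → g = 1

/-! ### the nine families -/

def fA : Fam := fun S _ => IsAlternating S
def fL : Fam := fun S _ => IsPSL S ∧ ¬ IsAlternating S
def fU : Fam := fun S _ => IsPSU S
def fS : Fam := fun S _ => IsPSp S
def fO : Fam := fun S _ => IsPOmegaOdd S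
def fP : Fam := fun S _ => IsPOmegaPlus S
def fM : Fam := fun S _ => IsPOmegaMinus S
def fE : Fam := fun S _ => IsExceptionalLieType S ∧ ¬ Lie.IsoTits S
def fX : Fam := fun S _ => IsSporadicGroup S ∨ Lie.IsoTits S

end Cfsg.Agent.SM
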