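import Cfsg.Agent.SM.Base

/-!
# SM (S3570): the statement from the five boxes (helper59)
-/

set_option autoImplicit false
set_option linter.unusedSectionVars false
set_option linter.unusedVariables false

namespace Cfsg.Agent.SM

open Equiv Subgroup MulAction

section perm

variable {Ω : Type} [Fintype Ω] [DecidableEq Ω]

/-- the bound in the setting `Sec` -/
theorem sec_of_boxes (np : BoxNP) (af : BoxAff) (pw : BoxPow) (ot : BoxOth) (as : BoxAS)
    {X H : Subgroup (Perm Ω)} (s : Sec X H) : (Ov X H).ncard ≤ 11 := by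
  by_cases hp : IsPreprimitive H Ω
  swap
  · exact np Ω X H s hp
  by_cases ha : ∃ V, Aff H V
  · obtain ⟨V, hV⟩ := ha
    exact af Ω X H V s hp hV
  by_cases ht : ∃ T, Soc H T
  swap
  · exact pw Ω X H s hp (not_exists.1 ha) (not_exists.1 ht)
  obtain ⟨T, hT⟩ := ht
  rcases ot Ω X H T s hp hT with h1 | h1
  swap
  · exact h1
  have h2 := as Ω X H T s hp hT
  have h3 : {M | M ∈ Ov X H ∧ Soc M T}.ncard ≤ 1 := by
    rw [Set.ncard_le_one (Set.toFinite _)]
    intro a ha b hb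
    exact s.eq_of_nor ha.1 hb.1 ha.2.toNor hb.2.toNor hT.ne
  have hsub : Ov X H ⊆ ({M | M ∈ Ov X H ∧ ∀ S, ¬ Soc M S} ∪ {M | M ∈ Ov X H ∧ ∃ S, Soc M S ∧ S ≠ T}) ∪
      {M | M ∈ Ov X H ∧ Soc M T} := by
    intro M hM
    by_cases h : ∃ S, Soc M S
    · obtain ⟨S, hS⟩ := h
      by_cases h' : S = T
      · exact Or.inr ⟨hM, h' ▸ hS⟩
      · exact Or.inl (Or.inr ⟨hM, S, hS, h'⟩)
    · exact Or.inl (Or.inl ⟨hM, not_exists.1 h⟩)
  have h4 := Set.ncard_le_ncard hsub (Set.toFinite _)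
  have h5 := Set.ncard_union_le ({M | M ∈ Ov X H ∧ ∀ S, ¬ Soc M S} ∪ {M | M ∈ Ov X H ∧ ∃ S, Soc M S ∧ S ≠ T})
    {M | M ∈ Ov X H ∧ Soc M T}
  have h6 := Set.ncard_union_le {M | M ∈ Ov X H ∧ ∀ S, ¬ Soc M S} {M | M ∈ Ov X H ∧ ∃ S, Soc M S ∧ S ≠ T}
  omega

/-- the case that `A_n` is one of the maximal overgroups: at most two of them -/
theorem alt_case (h5 : 5 ≤ Fintype.card Ω) {X H : Subgroup (Perm Ω)} (cov : ∀ M ∈ Ov X H, H ⋖ M)
    (hA : alternatingGroup Ω ∈ Ov X H) : (Ov X H).ncard ≤ 2 := by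
  have h5' : 5 ≤ Nat.card Ω := by rwa [Nat.card_eq_fintype_card]
  have hHA := cov _ hA
  have h0 : H ≠ ⊥ := by
    rintro rfl
    have := alternatingGroup.nontrivial_of_three_le_card (α := Ω) (by omega)
    obtain ⟨x, hx⟩ := exists_ne (1 : alternatingGroup Ω)
    rcases hHA.eq_or_eq (bot_le : ⊥ ≤ zpowers (x : Perm Ω)) (zpowers_le.2 x.2) with h | h
    · exact hx (Subtype.ext (zpowers_eq_bot.1 h))
    · apply hx
      apply Subtype.ext
      refine eq_one_of_comm_alt h5 fun a ha => ?_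
      rw [← h] at ha
      obtain ⟨k, rfl⟩ := ha
      exact (Commute.zpow_self (x : Perm Ω) k).eq
  have hN : ¬ alternatingGroup Ω ≤ normalizer (H : Set (Perm Ω)) := fun h =>
    hHA.lt.not_ge (alt_le_of_conj h5 h0 fun g hg x hx => (mem_normalizer_iff.1 (h hg) x).1 hx)
  have hsub : Ov X H ⊆ {alternatingGroup Ω, X ⊓ normalizer (H : Set (Perm Ω))} := by
    intro M hM
    by_cases hne : M = alternatingGroup Ω
    · exact Or.inl hne
    right
    have hinf : M ⊓ alternatingGroup Ω = H := by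
      rcases (cov M hM).eq_or_eq (le_inf hM.2 hA.2) inf_le_left with h | h
      · exact h
      · exact absurd (Sec.eq_of_le hM hA (inf_eq_left.1 h)) hne
    have hnor : Nor M H := by
      refine ⟨hM.2, fun g hg x hx => ?_⟩
      rw [← hinf] at hx ⊢
      exact ⟨(Nor.refl M).conj g hg x hx.1, (alternatingGroup.normal (α := Ω)).conj_mem x hx.2 g⟩
    rcases hM.1.eq_or_eq (le_inf hM.1.le hnor.le_normalizer) inf_le_left with h | h
    · exact h.symm
    · exact absurd (hA.1.le.trans (inf_eq_left.1 h)) hN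
  exact (Set.ncard_le_ncard hsub (Set.toFinite _)).trans ((Set.ncard_insert_le _ _).trans (by simp))

theorem perm_of_boxes (np : BoxNP) (af : BoxAff) (pw : BoxPow) (ot : BoxOth) (as : BoxAS)
    (h5 : 5 ≤ Fintype.card Ω) {X H : Subgroup (Perm Ω)} (alt : alternatingGroup Ω ≤ X) (lt : H < X) (nmax : ¬ H ⋖ X)
    (cov : ∀ M ∈ Ov X H, H ⋖ M) : (Ov X H).ncard ≤ 11 := by
  by_cases hA : alternatingGroup Ω ∈ Ov X H
  · exact (alt_case h5 cov hA).trans (by norm_num)
  · exact sec_of_boxes np af pw ot as ⟨h5, alt, lt, nmax, cov, hA⟩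

end perm

theorem covBy_map_iff {G G' : Type*} [Group G] [Group G'] {φ : G →* G'} (hφ : Function.Injective φ)
    (A B : Subgroup G) : A.map φ ⋖ B.map φ ↔ A ⋖ B := by
  constructor
  · intro h
    refine ⟨(map_lt_map_iff_of_injective hφ).1 h.lt, fun K h1 h2 => ?_⟩
    exact h.2 ((map_lt_map_iff_of_injective hφ).2 h1) ((map_lt_map_iff_of_injective hφ).2 h2)
  · intro h
    refine ⟨(map_lt_map_iff_of_injective hφ).2 h.lt, fun K h1 h2 => ?_⟩
    have hK : (K.comap φ).map φ = K := map_comap_eq_self (h2.le.trans (map_le_range φ B))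
    rw [← hK] at h1 h2
    exact h.2 ((map_lt_map_iff_of_injective hφ).1 h1) ((map_lt_map_iff_of_injective hφ).1 h2)

theorem of_hom (np : BoxNP) (af : BoxAff) (pw : BoxPow) (ot : BoxOth) (as : BoxAS) (n : ℕ) (hn : 5 ≤ n)
    {G : Type*} [Group G] (φ : G →* Perm (Fin n)) (hφ : Function.Injective φ)
    (alt : alternatingGroup (Fin n) ≤ φ.range) (H : Subgroup G) (hH1 : ¬ IsCoatom H) (hH2 : H ≠ ⊤)
    (hH3 : ∀ M : Subgroup G, IsCoatom M → H ≤ M → IsCoatom (H.subgroupOf M)) :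
    {M : Subgroup G | IsCoatom M ∧ H ≤ M}.ncard ≤ 11 := by
  have hr : (⊤ : Subgroup G).map φ = φ.range := (MonoidHom.range_eq_map φ).symm
  have key : (Ov φ.range (H.map φ)).ncard ≤ 11 := by
    refine perm_of_boxes np af pw ot as (by simpa using hn) alt ?_ ?_ ?_
    · rw [← hr]
      exact (map_lt_map_iff_of_injective hφ).2 (lt_top_iff_ne_top.2 hH2)
    · rw [← hr, covBy_map_iff hφ, covBy_top_iff]
      exact hH1
    · intro M hM
      have hK : (M.comap φ).map φ = M := map_comap_eq_self hM.1.le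
      have h1 : IsCoatom (M.comap φ) := by
        rw [← covBy_top_iff, ← covBy_map_iff hφ, hK, hr]
        exact hM.1
      have h2 : H ≤ M.comap φ := map_le_iff_le_comap.1 hM.2
      have h3 := hH3 _ h1 h2
      rw [← covBy_top_iff, ← covBy_map_iff (M.comap φ).subtype_injective, subgroupOf_map_subtype,
        inf_eq_left.2 h2, ← MonoidHom.range_eq_map, range_subtype, ← covBy_map_iff hφ, hK] at h3
      exact h3
  refine le_trans ?_ key
  refine Set.ncard_le_ncard_of_injOn (fun M => M.map φ) ?_ ?_ (Set.toFinite _)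
  · intro M hM
    refine ⟨?_, map_mono hM.2⟩
    rw [← hr, covBy_map_iff hφ, covBy_top_iff]
    exact hM.1
  · intro a _ b _ h
    exact map_injective hφ h

/-- **S3570 from the boxes** -/
theorem s3570_of (np : BoxNP) (af : BoxAff) (pw : BoxPow) (ot : BoxOth) (as : BoxAS) (n : ℕ) (hn : 5 ≤ n)
    {G : Type*} [Group G]
    (hG : Nonempty (G ≃* Equiv.Perm (Fin n)) ∨ Nonempty (G ≃* ↥(alternatingGroup (Fin n))))
    (H : Subgroup G) (hH1 : ¬ IsCoatom H) (hH2 : H ≠ ⊤)
    (hH3 : ∀ M : Subgroup G, IsCoatom M → H ≤ M → IsCoatom (H.subgroupOf M)) :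
    {M : Subgroup G | IsCoatom M ∧ H ≤ M}.ncard ≤ 11 := by
  rcases hG with ⟨⟨e⟩⟩ | ⟨⟨e⟩⟩
  · refine of_hom np af pw ot as n hn e.toMonoidHom e.injective ?_ H hH1 hH2 hH3
    intro x _
    exact ⟨e.symm x, by simp⟩
  · refine of_hom np af pw ot as n hn ((alternatingGroup (Fin n)).subtype.comp e.toMonoidHom)
      ((alternatingGroup (Fin n)).subtype_injective.comp e.injective) ?_ H hH1 hH2 hH3
    intro x hx
    exact ⟨e.symm ⟨x, hx⟩, by simp⟩

end Cfsg.Agent.SM
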